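import Cfsg.Agent.Lib.Blocks.FiveChars.Orbits
import Cfsg.Agent.Lib.Blocks.DefectBound.Bound
import Cfsg.Agent.Lib.Blocks.DefectOne.Count
import Cfsg.Agent.Lib.Pairs.Correspondence

/-!
# No block with one Brauer character and five characters has an abelian defect group of order eight

An invariant sign character would make the number of characters even, so the group is elementary
abelian, the inertial quotient is transitive on its involutions, and the block at an involution would
have rank four, more than a quotient block of defect two allows.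
-/

set_option autoImplicit false

namespace CfsgLib.FiveChars

open Cfsg CfsgLib.Blocks CfsgLib.Pairs CfsgLib.Watanabe CfsgLib.Blocks.DefectBound
open scoped Classical

universe u

variable {G : Type u} [Group G] [Fintype G] {M : Ideal AlgInt} [M.IsPrime]

/-- A block of defect three over a central involution has rank at most three. -/
theorem blockRank_le_three (hM : IsPModular 2 M) {b : Set (IrrCharacter G)} (hb : IsPBlock M b)
    {z : G} (hz : ∀ g : G, g * z = z * g) (hz2 : orderOf z = 2) (hd : blockDefect 2 b = 3) :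
    blockRank 2 b ≤ 3 := by
  have hf : Fact (Nat.Prime 2) := ⟨Nat.prime_two⟩
  have hzc : Subgroup.zpowers z ≤ Subgroup.center G :=
    Subgroup.zpowers_le.2 (Subgroup.mem_center_iff.2 hz)
  have hZn : (Subgroup.zpowers z).Normal := ⟨fun x hx g => by
    rw [Subgroup.mem_center_iff.1 (hzc hx) g]; simpa using hx⟩
  have : Fintype (G ⧸ Subgroup.zpowers z) := Fintype.ofFinite _
  have hcard : Nat.card (Subgroup.zpowers z) = 2 ^ 1 := by rw [Nat.card_zpowers, hz2, pow_one]
  have hq := isPBlock_quotBlock (Subgroup.zpowers z) hM hb hzc hcard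
  rw [blockRank_quotBlock (Subgroup.zpowers z) hM hb hzc hcard]
  have hdq := blockDefect_quotBlock_le (Subgroup.zpowers z) hM hb hzc hcard
  rw [hd] at hdq
  set q := quotBlock (Subgroup.zpowers z) b
  by_cases h0 : blockDefect 2 q = 0
  · exact (blockRank_le_card q).trans (by
      rw [CfsgLib.DefectOne.card_eq_one_of_defect_zero hM hq h0]; omega)
  obtain ⟨D, hD⟩ := exists_isDefectGroup (p := 2) hq
  have hDc := IsDefectGroup.card_eq hM hq hD
  obtain ⟨e, he⟩ := exists_pairOf_of_isDefectGroup hM hq hD
  have hmax := isMaximal_of_isDefectGroup hM he hD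
  have hab : ∀ x ∈ D, ∀ y ∈ D, x * y = y * x := by
    have : IsMulCommutative D := by
      rcases (show blockDefect 2 q = 1 ∨ blockDefect 2 q = 2 by omega) with h | h
      · rw [h, pow_one] at hDc
        have := isCyclic_of_prime_card hDc
        infer_instance
      · rw [h] at hDc
        exact IsPGroup.isMulCommutative_of_card_eq_prime_sq hDc
    intro x hx y hy
    exact congrArg Subtype.val (this.is_comm.comm (⟨x, hx⟩ : D) ⟨y, hy⟩)
  have hlt := blockRank_lt_card hM hmax hab (by
    intro e
    rw [e, Subgroup.card_bot] at hDc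
    rcases Nat.pow_eq_one.1 hDc.symm with h | h <;> omega)
  have hk := card_le_pow_bfExp hM _ hq rfl
  have hle : 2 ^ bfExp (blockDefect 2 q) ≤ 4 := by
    rw [show bfExp (blockDefect 2 q) = blockDefect 2 q from if_pos (by omega)]
    calc 2 ^ blockDefect 2 q ≤ 2 ^ 2 := Nat.pow_le_pow_right (by omega) (by omega)
      _ = 4 := rfl
  omega

/-- **No block with one Brauer character and five characters has abelian defect group of order
eight.** -/
theorem false_of_abelian_eight {p : ℕ} [Fact p.Prime] (hM : IsPModular p M)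
    {B : Set (IrrCharacter G)} (hB : IsPBlock M B) {D : Subgroup G} (hD : IsDefectGroup p M B D)
    (hl : blockRank p B = 1) (hk : Nat.card B = 5) (hD8 : Nat.card D = 8)
    (hab : ∀ x ∈ D, ∀ y ∈ D, x * y = y * x) : False := by
  have hp : p.Prime := Fact.out
  obtain rfl : p = 2 := by
    have h := (IsDefectGroup.card_eq hM hB hD).symm.trans hD8
    have hd : 0 < blockDefect p B := Nat.pos_of_ne_zero fun e => by rw [e] at h; simp at h
    exact (Nat.prime_dvd_prime_iff_eq hp Nat.prime_two).1
      (hp.dvd_of_dvd_pow (show p ∣ 2 ^ 3 by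
        rw [show 2 ^ 3 = p ^ blockDefect p B from h.symm]; exact dvd_pow_self p hd.ne'))
  have hd3 : blockDefect 2 B = 3 :=
    Nat.pow_right_injective le_rfl ((IsDefectGroup.card_eq hM hB hD).symm.trans hD8)
  obtain ⟨c, hc⟩ := exists_pairOf_of_isDefectGroup hM hB hD
  have hmax := isMaximal_of_isDefectGroup hM hc hD
  have := Fintype.ofFinite D
  letI : CommGroup D := { (inferInstance : Group D) with
    mul_comm := fun x y => Subtype.ext (hab _ x.2 _ y.2) }
  have hodd : ¬ Even (Nat.card B) := by rw [hk]; decide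
  -- the group is elementary abelian
  have hel : ∀ x : D, x ^ 2 = 1 := by
    by_contra hne
    push Not at hne
    obtain ⟨x₀, hx₀⟩ := hne
    obtain ⟨n, hn, hn1⟩ : ∃ n : ℕ, (∀ x : D, (x ^ n) ^ n = 1) ∧ ∃ x : D, x ^ n ≠ 1 := by
      have h8 : ∀ x : D, x ^ 8 = 1 := fun x => hD8 ▸ pow_card_eq_one'
      by_cases h4 : ∀ x : D, x ^ 4 = 1
      · exact ⟨2, fun x => by rw [← pow_mul]; exact h4 x, x₀, hx₀⟩
      · push Not at h4
        exact ⟨4, fun x => by rw [← pow_mul, show 4 * 4 = 8 * 2 from rfl, pow_mul, h8, one_pow], h4⟩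
    let φ : D →* D := powMonoidHom n
    have hφ : ∀ x, φ x = x ^ n := fun x => rfl
    have hle : φ.range ≤ φ.ker := by
      rintro _ ⟨x, rfl⟩
      rw [MonoidHom.mem_ker, hφ, hφ]
      exact hn x
    have hmul : Nat.card φ.range * Nat.card φ.ker = 8 := by
      rw [← Subgroup.index_ker, Subgroup.index_mul_card, hD8]
    have hle' := Nat.le_of_dvd Nat.card_pos (Subgroup.card_dvd_of_le hle)
    have hone : 2 ≤ Nat.card φ.range := by
      obtain ⟨x, hx⟩ := hn1
      rw [← not_lt]
      intro hlt
      have : Nat.card φ.range = 1 := by have := Nat.card_pos (α := φ.range); omega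
      rw [Subgroup.card_eq_one] at this
      exact hx ((Subgroup.mem_bot).1 (this ▸ ⟨x, rfl⟩ : φ x ∈ (⊥ : Subgroup D)))
    have h2 : Nat.card φ.range = 2 := by nlinarith
    have huniq : ∀ a b : D, a ∈ φ.range → b ∈ φ.range → a ≠ 1 → b ≠ 1 → a = b := by
      intro a b ha hb ha1 hb1
      have h := (Nat.card_eq_two_iff' (⟨1, one_mem _⟩ : φ.range)).1 h2
      exact congrArg Subtype.val (h.unique (y₁ := ⟨a, ha⟩) (y₂ := ⟨b, hb⟩)
        (fun e => ha1 (congrArg Subtype.val e)) (fun e => hb1 (congrArg Subtype.val e)))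
    let lam : D →* ℂˣ :=
      { toFun := fun x => if φ x = 1 then 1 else -1
        map_one' := by simp
        map_mul' := fun x y => by
          by_cases hx : φ x = 1
          · simp [map_mul, hx]
          by_cases hy : φ y = 1
          · simp [map_mul, hy]
          have hxy : φ (x * y) = 1 := by
            by_contra hxy
            have e := huniq _ _ ⟨x * y, rfl⟩ ⟨x, rfl⟩ hxy hx
            rw [map_mul] at e
            exact hy (mul_eq_left.1 e)
          simp [hx, hy, hxy] }
    have hlam : ∀ x, lam x = if φ x = 1 then 1 else -1 := fun x => rfl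
    refine hodd (even_card_of_invariant_sign hM hmax hab (lam := lam) (fun t _ x y hxy => ?_) ?_ fun x => ?_)
    · have e : φ y = 1 ↔ φ x = 1 := by
        rw [hφ, hφ, ← Subtype.coe_inj, Subgroup.coe_pow, ← hxy, conj_pow, Subgroup.coe_one,
          conj_eq_one_iff, ← Subtype.coe_inj (b := (1 : D)), Subgroup.coe_pow, Subgroup.coe_one]
      simp only [hlam, e]
    · intro h
      obtain ⟨x, hx⟩ := hn1
      have := congrArg Units.val (DFunLike.congr_fun h x)
      rw [hlam, if_neg (show φ x ≠ 1 from hx)] at this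
      norm_num at this
    · rw [hlam]; split_ifs <;> simp
  -- no involution is fixed
  have hfix : ∀ v : D, v ≠ 1 → orbitSize D c (v : G) ≠ 1 := by
    intro v hv1 hv
    have hvfix : ∀ t ∈ pairStab D c, t * (v : G) * t⁻¹ = v := by
      intro t ht
      obtain ⟨hss, -⟩ := Nat.card_eq_one_iff_unique.1 hv
      have hmem : t * (v : G) * t⁻¹ ∈ D :=
        (Subgroup.mem_normalizer_iff.1 (pairStab_le_normalizer D c ht) _).1 v.2
      exact congrArg (fun w => ((w.1 : D) : G))
        (@Subsingleton.elim _ hss ⟨⟨_, hmem⟩, t, ht, rfl⟩ ⟨v, 1, one_mem _, by simp⟩)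
    have hsat := isSaturated_of_isBlockFusionSystemOn (isBlockFusionSystemOn_blockFusion hM hmax) hM
    obtain ⟨lam, hinv, -, hlamv⟩ := exists_invariant_char ((blockFusion hM hmax).autGroup D)
      (CfsgLib.Fusion.coprime_card_autGroup hmax.1.1.1 hsat hab) ⊥ (a := v)
      (fun z hz σ _ => by rw [(Subgroup.mem_bot).1 hz, map_one])
      (fun σ hσ => by
        obtain ⟨t, ht, htx⟩ := exists_stab_of_aut hM hmax hσ
        exact Subtype.ext ((htx v).trans (hvfix t ht)))
      (fun h => hv1 ((Subgroup.mem_bot).1 h))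
    refine hodd (even_card_of_invariant_sign hM hmax hab (lam := lam) (fun t ht x y hxy => ?_)
      (fun h => hlamv (by rw [h]; rfl)) fun x => ?_)
    · obtain ⟨σ, hσ, hσt⟩ := exists_aut_of_stab hM hmax ht
      rw [show y = σ x from Subtype.ext (hxy.symm.trans (hσt x).symm), hinv σ hσ x]
    · have h : ((lam x : ℂˣ) : ℂ) * ((lam x : ℂˣ) : ℂ) = 1 := by
        rw [← Units.val_mul, ← map_mul, ← pow_two, hel x, map_one, Units.val_one]
      exact mul_self_eq_one_iff.1 h
  -- the orbits are the seven involutions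
  let O : D → Finset D := fun v =>
    Finset.univ.filter fun w : D => ∃ t ∈ pairStab D c, t * (v : G) * t⁻¹ = (w : G)
  have hself : ∀ v, v ∈ O v := fun v => Finset.mem_filter.2 ⟨Finset.mem_univ _, 1, one_mem _, by simp⟩
  have hO1 : ∀ v, v ≠ 1 → O v ⊆ Finset.univ.erase 1 := by
    intro v hv w hw
    obtain ⟨t, -, htw⟩ := (Finset.mem_filter.1 hw).2
    refine Finset.mem_erase.2 ⟨fun e => hv ?_, Finset.mem_univ _⟩
    rw [e, Subgroup.coe_one, conj_eq_one_iff] at htw
    exact Subtype.ext htw
  have hO3 : ∀ v, v ≠ 1 → 3 ≤ (O v).card := by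
    intro v hv
    have h1 := hfix v hv
    have h2 := orbitSize_coprime hM hmax hab v
    rw [← card_orbit] at h1 h2
    change (O v).card ≠ 1 at h1
    change (O v).card.Coprime _ at h2
    rw [hD8] at h2
    have hpos : 0 < (O v).card := Finset.card_pos.2 ⟨v, hself v⟩
    by_contra hlt
    rw [show (O v).card = 2 by omega] at h2
    norm_num at h2
  have hdisj : ∀ v w, w ∉ O v → Disjoint (O v) (O w) := by
    intro v w hw
    refine Finset.disjoint_left.2 fun z hz hz' => hw (Finset.mem_filter.2 ⟨Finset.mem_univ _, ?_⟩)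
    obtain ⟨s, hs, hsz⟩ := (Finset.mem_filter.1 hz).2
    obtain ⟨t, ht, htz⟩ := (Finset.mem_filter.1 hz').2
    refine ⟨t⁻¹ * s, mul_mem (inv_mem ht) hs, ?_⟩
    calc t⁻¹ * s * (v : G) * (t⁻¹ * s)⁻¹ = t⁻¹ * (s * (v : G) * s⁻¹) * t := by group
      _ = _ := by rw [hsz, ← htz]; group
  have huniv : (Finset.univ.erase (1 : D)).card = 7 := by
    rw [Finset.card_erase_of_mem (Finset.mem_univ _), Finset.card_univ, ← Nat.card_eq_fintype_card, hD8]
  have hO7 : ∀ v, v ≠ 1 → O v = Finset.univ.erase 1 := by
    intro v hv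
    by_contra hne
    obtain ⟨w, hw, hwv⟩ := Finset.exists_of_ssubset ((hO1 v hv).ssubset_of_ne hne)
    have hw1 := (Finset.mem_erase.1 hw).1
    have hsub : O v ∪ O w ⊆ Finset.univ.erase 1 := Finset.union_subset (hO1 v hv) (hO1 w hw1)
    have hc1 := Finset.card_le_card hsub
    rw [Finset.card_union_of_disjoint (hdisj v w hwv), huniv] at hc1
    have h3v := hO3 v hv
    have h3w := hO3 w hw1
    have h4 : ∀ u, u ≠ 1 → (O u).card ≠ 4 := fun u hu e => by
      have h2 := orbitSize_coprime hM hmax hab u
      rw [← card_orbit, show _ = (O u).card from rfl, e, hD8] at h2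
      norm_num at h2
    have h4v := h4 v hv
    have h4w := h4 w hw1
    obtain ⟨x, hx, hxn⟩ := Finset.exists_mem_notMem_of_card_lt_card
      (s := O v ∪ O w) (t := Finset.univ.erase (1 : D))
      (by rw [Finset.card_union_of_disjoint (hdisj v w hwv), huniv]; omega)
    have hx1 := (Finset.mem_erase.1 hx).1
    rw [Finset.mem_union, not_or] at hxn
    have hc2 := Finset.card_le_card (Finset.union_subset hsub (hO1 x hx1))
    rw [Finset.card_union_of_disjoint (Finset.disjoint_union_left.2 ⟨hdisj v x hxn.1, hdisj w x hxn.2⟩),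
      Finset.card_union_of_disjoint (hdisj v w hwv), huniv] at hc2
    have := hO3 x hx1
    omega
  -- the local rank at an involution
  obtain ⟨v, hv⟩ : ∃ v : D, v ≠ 1 := by
    obtain ⟨v, hv⟩ := Finset.card_pos.1 (show 0 < (Finset.univ.erase (1 : D)).card by omega)
    exact ⟨v, (Finset.mem_erase.1 hv).1⟩
  set r := localRank 2 M D c (Subgroup.zpowers (v : G)) with hr
  have hterm : ∀ w ∈ Finset.univ.erase (1 : D),
      (localRank 2 M D c (Subgroup.zpowers (w : G)) : ℂ) / (orbitSize D c (w : G) : ℂ) = (r : ℂ) / 7 := by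
    intro w hw
    have hw1 := (Finset.mem_erase.1 hw).1
    obtain ⟨t, ht, htw⟩ := (Finset.mem_filter.1 (show w ∈ O v by rw [hO7 v hv]; exact hw)).2
    rw [← card_orbit, show _ = (O w).card from rfl, hO7 w hw1, huniv, ← htw,
      localRank_conj hM hmax ht v.2, ← hr, Nat.cast_ofNat]
  have h := card_eq_sum hM hmax hab
  have ho : orbitSize D c ((1 : D) : G) = 1 := by
    rw [← card_orbit, Finset.card_eq_one]
    refine ⟨1, Finset.eq_singleton_iff_unique_mem.2 ⟨hself 1, fun w hw => ?_⟩⟩
    obtain ⟨t, -, htw⟩ := (Finset.mem_filter.1 hw).2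
    exact Subtype.ext (by simpa using htw.symm)
  rw [← Finset.add_sum_erase _ _ (Finset.mem_univ (1 : D)), Finset.sum_congr rfl hterm,
    Finset.sum_const, huniv, ho, Nat.cast_one, div_one, Subgroup.coe_one,
    Subgroup.zpowers_one_eq_bot, localRank_bot hM hmax, hl, hk, nsmul_eq_mul,
    show ((7 : ℕ) : ℂ) * ((r : ℂ) / 7) = (r : ℂ) by push_cast; ring] at h
  have hr4 : 5 = 1 + r := by exact_mod_cast h
  -- the quotient by the involution
  obtain ⟨f, hle, hfB, hrf⟩ := exists_localRank hM hmax (Subgroup.zpowers_le.2 v.2)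
  have hvC : (v : G) ∈ Subgroup.centralizer (Subgroup.zpowers (v : G) : Set G) := by
    rw [Subgroup.zpowers_eq_closure, Subgroup.centralizer_closure,
      Subgroup.mem_centralizer_singleton_iff]
  have hvP : (v : G) ∈ Subgroup.centralizer (D : Set G) :=
    Subgroup.mem_centralizer_iff.2 fun z hz => hab z hz v v.2
  have hle3 := blockRank_le_three hM hfB.1.2 (z := ⟨v, hvC⟩)
    (fun g => Subtype.ext (Subgroup.mem_centralizer_iff.1 g.2 v (Subgroup.mem_zpowers _)).symm)
    (by
      rw [Subgroup.orderOf_mk, Subgroup.orderOf_coe]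
      exact orderOf_eq_prime (hel v) hv)
    ((CfsgLib.Star.blockDefect_eq_of_central hM hmax hvP hle).trans hd3)
  rw [← hrf, ← hr] at hle3
  omega

end CfsgLib.FiveChars
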