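import Cfsg.Agent.Lib.Blocks.Watanabe.Main
import Cfsg.Agent.Lib.Blocks.DeficitOne.Count

/-!
# Local ranks on the orbits of the inertial quotient of an abelian defect group

The orbits have odd size for a two group, the local rank is constant on them, and the weighted
sum over an invariant set is a natural number.
-/

set_option autoImplicit false

namespace CfsgLib.FiveChars

open Cfsg CfsgLib.Blocks CfsgLib.Pairs CfsgLib.Watanabe
open scoped Classical

variable {G : Type*} [Group G] [Fintype G] {M : Ideal AlgInt} [M.IsPrime] {p : ℕ} [Fact p.Prime]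
  (hM : IsPModular p M) {B : Set (IrrCharacter G)} {P : Subgroup G}
  {c : Set (IrrCharacter (Subgroup.centralizer (P : Set G)))}
  (hmax : IsMaximalBrauerPair p M B P c)
include hM hmax

theorem one_le_localRank {Q : Subgroup G} (hQ : Q ≤ P) : 1 ≤ localRank p M P c Q := by
  obtain ⟨f, -, hfB, hr⟩ := exists_localRank hM hmax hQ
  rw [hr]
  obtain ⟨ξ, hξ⟩ := IsPBlock.nonempty hfB.1.2
  exact DeficitOne.one_le_blockRank hξ

/-- The local rank does not change under the stabilizer of the pair. -/
theorem localRank_conj {t : G} (ht : t ∈ pairStab P c) {v : G} (hv : v ∈ P) :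
    localRank p M P c (Subgroup.zpowers (t * v * t⁻¹)) = localRank p M P c (Subgroup.zpowers v) := by
  obtain ⟨f, hle, -, hr⟩ := exists_localRank hM hmax (Subgroup.zpowers_le.2 hv)
  have h := subpairLE_conjPair (M := M) (p := p) t
    (a := (⟨Subgroup.zpowers v, f⟩ : BrauerPairIdx G)) (b := ⟨P, c⟩) hle
  rw [mem_pairStab_iff_conjPair.1 ht] at h
  have h2 : localRank p M P c ((Subgroup.zpowers v).map (MulAut.conj t).toMonoidHom) =
      blockRank p (conjBlock (Subgroup.zpowers v) t f) :=
    localRank_eq hM hmax.1.1 h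
  rw [hr, show Subgroup.zpowers (t * v * t⁻¹) =
      (Subgroup.zpowers v).map (MulAut.conj t).toMonoidHom by rw [MonoidHom.map_zpowers]; rfl]
  refine h2.trans ?_
  rw [conjBlock_eq, blockRank_mapBlock]

variable (hab : ∀ x ∈ P, ∀ y ∈ P, x * y = y * x)
include hab

omit hab in
/-- An automorphism in the fusion system is conjugation by an element of the stabilizer. -/
theorem exists_stab_of_aut {σ : MulAut P} (hσ : σ ∈ (blockFusion hM hmax).autGroup P) :
    ∃ t ∈ pairStab P c, ∀ x : P, ((σ x : P) : G) = t * (x : G) * t⁻¹ :=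
  CfsgLib.Fusion.mem_autInducedBy_iff.1
    ((mem_autGroup_iff_pairStab (isBlockFusionSystemOn_blockFusion hM hmax) hM (Q := P) (f := c)
      Relation.ReflTransGen.refl).1 hσ)

omit hab in
theorem exists_aut_of_stab {t : G} (ht : t ∈ pairStab P c) :
    ∃ σ ∈ (blockFusion hM hmax).autGroup P, ∀ x : P, ((σ x : P) : G) = t * (x : G) * t⁻¹ := by
  refine ⟨conjEquiv P P t (mem_normalizer_conj ht.1), ?_, fun x => rfl⟩
  exact (mem_autGroup_iff_pairStab (isBlockFusionSystemOn_blockFusion hM hmax) hM (Q := P) (f := c)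
    Relation.ReflTransGen.refl).2 (CfsgLib.Fusion.mem_autInducedBy_iff.2 ⟨t, ht, fun z => rfl⟩)

/-- The orbit sizes are prime to `p` unless `P` is trivial. -/
theorem orbitSize_coprime (v : P) : (orbitSize P c (v : G)).Coprime (Nat.card P) := by
  have hsat := isSaturated_of_isBlockFusionSystemOn (isBlockFusionSystemOn_blockFusion hM hmax) hM
  have hcop := CfsgLib.Fusion.coprime_card_autGroup hmax.1.1.1 hsat hab
  set A := (blockFusion hM hmax).autGroup P
  have e : orbitSize P c (v : G) = Nat.card (MulAction.orbit A v) := by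
    refine Nat.card_congr (Equiv.subtypeEquivRight fun w => ⟨?_, ?_⟩)
    · rintro ⟨t, ht, htw⟩
      obtain ⟨σ, hσ, hσt⟩ := exists_aut_of_stab hM hmax ht
      exact ⟨⟨σ, hσ⟩, Subtype.ext ((hσt v).trans htw)⟩
    · rintro ⟨⟨σ, hσ⟩, rfl⟩
      obtain ⟨t, ht, hσt⟩ := exists_stab_of_aut hM hmax hσ
      exact ⟨t, ht, (hσt v).symm⟩
  rw [e]
  refine Nat.Coprime.coprime_dvd_left ?_ hcop
  rw [Nat.card_congr (MulAction.orbitEquivQuotientStabilizer A v)]
  exact Subgroup.card_quotient_dvd_card _

omit hab hM hmax [M.IsPrime] [Fact p.Prime] in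
/-- The orbit of an element as a finite set. -/
theorem card_orbit [Fintype P] (v : P) :
    (Finset.univ.filter fun w : P => ∃ t ∈ pairStab P c, t * (v : G) * t⁻¹ = (w : G)).card =
      orbitSize P c (v : G) := by
  rw [orbitSize, Nat.card_eq_fintype_card, Fintype.card_subtype]

/-- The weighted sum over an invariant set is a natural number. -/
theorem exists_nat_sum [Fintype P] (S : Finset P)
    (hS : ∀ t ∈ pairStab P c, ∀ x y : P, t * (x : G) * t⁻¹ = (y : G) → x ∈ S → y ∈ S) :
    ∃ N : ℕ, ∑ v ∈ S, (localRank p M P c (Subgroup.zpowers (v : G)) : ℂ) /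
      (orbitSize P c (v : G) : ℂ) = (N : ℂ) := by
  let O : P → Finset P := fun v =>
    Finset.univ.filter fun w : P => ∃ t ∈ pairStab P c, t * (v : G) * t⁻¹ = (w : G)
  have hself : ∀ v, v ∈ O v := fun v => Finset.mem_filter.2 ⟨Finset.mem_univ _, 1, one_mem _, by simp⟩
  have hO : ∀ v w, w ∈ O v → O w = O v := by
    intro v w hw
    obtain ⟨t, ht, htw⟩ := (Finset.mem_filter.1 hw).2
    ext z
    simp only [O, Finset.mem_filter, Finset.mem_univ, true_and]
    constructor
    · rintro ⟨s, hs, hsz⟩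
      exact ⟨s * t, mul_mem hs ht, by rw [← hsz, ← htw]; group⟩
    · rintro ⟨s, hs, hsz⟩
      exact ⟨s * t⁻¹, mul_mem hs (inv_mem ht), by rw [← hsz, ← htw]; group⟩
  have hfib : ∀ o ∈ S.image O, ∃ n : ℕ, ∑ v ∈ S.filter (fun v => O v = o),
      (localRank p M P c (Subgroup.zpowers (v : G)) : ℂ) / (orbitSize P c (v : G) : ℂ) = (n : ℂ) := by
    intro o ho
    obtain ⟨v, hv, rfl⟩ := Finset.mem_image.1 ho
    have hfilter : S.filter (fun w => O w = O v) = O v := by
      ext w
      refine ⟨fun hw => (Finset.mem_filter.1 hw).2 ▸ hself w, fun hw => Finset.mem_filter.2 ⟨?_, hO v w hw⟩⟩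
      obtain ⟨t, ht, htw⟩ := (Finset.mem_filter.1 hw).2
      exact hS t ht v w htw hv
    refine ⟨localRank p M P c (Subgroup.zpowers (v : G)), ?_⟩
    rw [hfilter, Finset.sum_congr rfl (g := fun _ =>
      (localRank p M P c (Subgroup.zpowers (v : G)) : ℂ) / (orbitSize P c (v : G) : ℂ)) fun w hw => ?_,
      Finset.sum_const, show (O v).card = orbitSize P c (v : G) from card_orbit v, nsmul_eq_mul,
      mul_div_cancel₀]
    · refine Nat.cast_ne_zero.2 ?_
      rw [← card_orbit v]
      exact Finset.card_ne_zero.2 ⟨v, hself v⟩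
    · obtain ⟨t, ht, htw⟩ := (Finset.mem_filter.1 hw).2
      rw [show orbitSize P c (w : G) = orbitSize P c (v : G) by
        rw [← card_orbit w, ← card_orbit v]; exact congrArg Finset.card (hO v w hw)]
      rw [← htw, localRank_conj hM hmax ht v.2]
  choose n hn using hfib
  refine ⟨∑ o ∈ (S.image O).attach, n o.1 o.2, ?_⟩
  rw [← Finset.sum_fiberwise_of_maps_to (g := O) (t := S.image O) fun v hv => Finset.mem_image_of_mem O hv,
    ← Finset.sum_attach (S.image O)]
  push_cast
  exact Finset.sum_congr rfl fun o _ => hn o.1 o.2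

/-- An invariant character with values `±1` forces an even number of characters. -/
theorem even_card_of_invariant_sign [Fintype P] {lam : P →* ℂˣ} (hlam : IsInvariantLin P c lam)
    (hne : lam ≠ 1) (hsq : ∀ x, ((lam x : ℂˣ) : ℂ) = 1 ∨ ((lam x : ℂˣ) : ℂ) = -1) :
    Even (Nat.card B) := by
  obtain ⟨N, hN⟩ := exists_nat_sum hM hmax hab
    (Finset.univ.filter fun v : P => ((lam v : ℂˣ) : ℂ) = -1)
    (fun t ht x y hxy hx => by
      simp only [Finset.mem_filter, Finset.mem_univ, true_and] at hx ⊢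
      rw [← hlam t ht x y hxy]; exact hx)
  have h0 := sum_eq_zero hM hmax hab hlam hne
  have h1 := card_eq_sum hM hmax hab
  refine ⟨N, ?_⟩
  have hk : (Nat.card B : ℂ) = ((N + N : ℕ) : ℂ) := by
    have e : (∑ v : P, (localRank p M P c (Subgroup.zpowers (v : G)) : ℂ) / (orbitSize P c (v : G) : ℂ)) -
        (∑ v : P, ((lam v : ℂˣ) : ℂ) * (localRank p M P c (Subgroup.zpowers (v : G)) : ℂ) /
          (orbitSize P c (v : G) : ℂ)) = (N : ℂ) + (N : ℂ) := by
      rw [← hN, Finset.sum_filter, ← Finset.sum_add_distrib, ← Finset.sum_sub_distrib]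
      refine Finset.sum_congr rfl fun v _ => ?_
      rcases hsq v with h | h
      · rw [h, if_neg (by norm_num)]; ring
      · rw [h, if_pos rfl]; ring
    push_cast
    rw [← e, ← h1, h0, sub_zero]
  exact_mod_cast hk

/-- The rank of a block with nontrivial abelian defect group is less than its number of
characters. -/
theorem blockRank_lt_card (hP : P ≠ ⊥) : blockRank p B < Nat.card B := by
  have := Fintype.ofFinite P
  obtain ⟨N, hN⟩ := exists_nat_sum hM hmax hab (Finset.univ.erase (1 : P))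
    (fun t _ x y hxy hx => by
      simp only [Finset.mem_erase, Finset.mem_univ, and_true] at hx ⊢
      intro hy
      rw [hy, Subgroup.coe_one, conj_eq_one_iff] at hxy
      exact hx (Subtype.ext hxy))
  have ho : orbitSize P c ((1 : P) : G) = 1 := by
    rw [← card_orbit, Finset.card_eq_one]
    refine ⟨1, Finset.eq_singleton_iff_unique_mem.2
      ⟨Finset.mem_filter.2 ⟨Finset.mem_univ _, 1, one_mem _, by simp⟩, fun w hw => ?_⟩⟩
    obtain ⟨t, -, htw⟩ := (Finset.mem_filter.1 hw).2
    exact Subtype.ext (by simpa using htw.symm)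
  have h := card_eq_sum hM hmax hab
  rw [← Finset.add_sum_erase _ _ (Finset.mem_univ (1 : P)), hN, ho, Nat.cast_one, div_one,
    Subgroup.coe_one, Subgroup.zpowers_one_eq_bot, localRank_bot hM hmax] at h
  have h' : Nat.card B = blockRank p B + N := by exact_mod_cast h
  suffices 0 < N by omega
  refine Nat.pos_of_ne_zero fun hN0 => ?_
  rw [hN0, Nat.cast_zero] at hN
  obtain ⟨⟨v, hv⟩, hv1⟩ := Subgroup.ne_bot_iff_exists_ne_one.1 hP
  let g : P → ℝ := fun w =>
    (localRank p M P c (Subgroup.zpowers (w : G)) : ℝ) / (orbitSize P c (w : G) : ℝ)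
  have hsum : ∑ w ∈ Finset.univ.erase (1 : P), g w = 0 := by
    apply Complex.ofReal_injective
    push_cast [g]
    exact hN
  have hvw := (Finset.sum_eq_zero_iff_of_nonneg fun w _ => by positivity).1 hsum ⟨v, hv⟩
    (Finset.mem_erase.2 ⟨hv1, Finset.mem_univ _⟩)
  rcases div_eq_zero_iff.1 hvw with h1 | h1
  · have := one_le_localRank hM hmax (Subgroup.zpowers_le.2 hv)
    rw [Nat.cast_eq_zero] at h1
    change localRank p M P c (Subgroup.zpowers v) = 0 at h1
    omega
  · rw [Nat.cast_eq_zero, ← card_orbit] at h1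
    exact Finset.card_ne_zero.2 ⟨⟨v, hv⟩, Finset.mem_filter.2 ⟨Finset.mem_univ _, 1, one_mem _, by simp⟩⟩ h1

end CfsgLib.FiveChars
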